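import Groth.Agent.FlatMor67.FibreFree
import Groth.Agent.LF71.Restrict
import Groth.Agent.Algz14.NisGen
import Groth.Agent.Desc59.Pic.DisjointCover
import Groth.Agent.Mum71.StratGlobal
import Groth.Agent.Om3.Chart

/-! Frames of a module on a family over open subsets of the base. -/

set_option autoImplicit false
set_option maxSynthPendingDepth 6
set_option linter.style.haveILetI false
set_option linter.unusedSectionVars false
set_option backward.isDefEq.respectTransparency.types false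

universe u

noncomputable section

open CategoryTheory CategoryTheory.Limits AlgebraicGeometry TopologicalSpace Opposite
open Groth.Agent.QC70 Groth.Agent.Props58.LocFree

namespace Groth.Agent.FlatMor66.DescLocus

variable {X S : Scheme.{u}} (f : X ⟶ S) (E : X.Modules)

/-- Near `t` the pullback of `E` is trivial of rank `r`. -/
def TrivAt {T : Scheme.{u}} (u : T ⟶ S) (r : ℕ) (t : T) : Prop :=
  ∃ (T' : Scheme.{u}) (j : T' ⟶ T), IsOpenImmersion j ∧ t ∈ Set.range j ∧
    Nonempty ((Scheme.Modules.pullback (pullback.fst f (j ≫ u))).obj E ≅ FlatMod.freeMod (pullback f (j ≫ u)) r)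

variable {f E}

theorem trivial_congr {T : Scheme.{u}} {u₁ u₂ : T ⟶ S} (e : u₁ = u₂) {r : ℕ}
    (h : Nonempty ((Scheme.Modules.pullback (pullback.fst f u₁)).obj E ≅ FlatMod.freeMod (pullback f u₁) r)) :
    Nonempty ((Scheme.Modules.pullback (pullback.fst f u₂)).obj E ≅ FlatMod.freeMod (pullback f u₂) r) := by
  subst e; exact h

theorem TrivAt.of_open {T T' : Scheme.{u}} {u : T ⟶ S} (j : T' ⟶ T) [IsOpenImmersion j] {r : ℕ} {t' : T'}
    (h : TrivAt f E (j ≫ u) r t') : TrivAt f E u r (j t') := by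
  obtain ⟨T'', j', hj', ⟨w, rfl⟩, ⟨α⟩⟩ := h
  haveI := hj'
  exact ⟨T'', j' ≫ j, inferInstance, ⟨w, rfl⟩, trivial_congr (Category.assoc _ _ _).symm ⟨α⟩⟩

theorem isOpen_trivAt {T : Scheme.{u}} (u : T ⟶ S) (r : ℕ) : IsOpen {t : T | TrivAt f E u r t} := by
  refine isOpen_iff_forall_mem_open.2 fun t ⟨T', j, hj, ht, hα⟩ => ?_
  haveI := hj
  exact ⟨Set.range j, fun t' ht' => ⟨T', j, hj, ht', hα⟩, j.isOpenEmbedding.isOpen_range, ht⟩

theorem TrivAt.comp {T T' : Scheme.{u}} {u : T ⟶ S} (g : T' ⟶ T) {r : ℕ} {t' : T'}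
    (h : TrivAt f E u r (g t')) : TrivAt f E (g ≫ u) r t' := by
  obtain ⟨T₁, j, hj, ht, ⟨α⟩⟩ := h
  haveI := hj
  refine ⟨pullback g j, pullback.fst g j, inferInstance, ?_, ⟨?_⟩⟩
  · rw [Scheme.Pullback.range_fst]
    exact ht
  · have e : (pullback.fst g j ≫ g ≫ u) = pullback.snd g j ≫ j ≫ u := by
      rw [← Category.assoc, pullback.condition, Category.assoc]
    let v : pullback f (pullback.fst g j ≫ g ≫ u) ⟶ pullback f (j ≫ u) :=
      pullback.lift (pullback.fst _ _) (pullback.snd _ _ ≫ pullback.snd g j)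
        (by rw [Category.assoc, ← e]; exact pullback.condition)
    exact (Scheme.Modules.pullbackCongr (show pullback.fst f (pullback.fst g j ≫ g ≫ u) = v ≫ pullback.fst _ _ from
        (pullback.lift_fst _ _ _).symm)).app E ≪≫ ((Scheme.Modules.pullbackComp v _).app E).symm ≪≫
      (Scheme.Modules.pullback v).mapIso α ≪≫ Algz14.pullbackFreeModIso v r

/-- A pulled back locally free module gives triviality. -/
theorem exists_trivAt_of_descended {T : Scheme.{u}} (u : T ⟶ S) (N : T.Modules) (hN : FlatMod.IsFinLocFree N)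
    (β : (Scheme.Modules.pullback (pullback.snd f u)).obj N ≅ (Scheme.Modules.pullback (pullback.fst f u)).obj E)
    (t : T) : ∃ r, TrivAt f E u r t := by
  obtain ⟨V, n, htV, ⟨α⟩⟩ := hN t
  refine ⟨n, V, V.ι, inferInstance, ⟨⟨t, htV⟩, rfl⟩, ⟨?_⟩⟩
  let v : pullback f (V.ι ≫ u) ⟶ pullback f u :=
    pullback.lift (pullback.fst _ _) (pullback.snd _ _ ≫ V.ι) (by rw [Category.assoc]; exact pullback.condition)
  exact (Scheme.Modules.pullbackCongr (show pullback.fst f (V.ι ≫ u) = v ≫ pullback.fst _ _ from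
        (pullback.lift_fst _ _ _).symm)).app E ≪≫ ((Scheme.Modules.pullbackComp v _).app E).symm ≪≫
    (Scheme.Modules.pullback v).mapIso β.symm ≪≫ (Scheme.Modules.pullbackComp v _).app N ≪≫
    (Scheme.Modules.pullbackCongr (show v ≫ pullback.snd f u = pullback.snd f (V.ι ≫ u) ≫ V.ι from
        pullback.lift_snd _ _ _)).app N ≪≫ ((Scheme.Modules.pullbackComp _ V.ι).app N).symm ≪≫
    (Scheme.Modules.pullback _).mapIso (((Scheme.Modules.restrictFunctorIsoPullback V.ι).app N).symm ≪≫ α) ≪≫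
    Algz14.pullbackFreeModIso _ n

/-- Triviality gives a frame over a neighbourhood. -/
theorem exists_frame {T : Scheme.{u}} {u : T ⟶ S} {r : ℕ} {t : T} (h : TrivAt f E u r t) :
    ∃ (V : T.Opens) (m : Fin r → Γ((Scheme.Modules.pullback (pullback.fst f u)).obj E, pullback.snd f u ⁻¹ᵁ V)),
      t ∈ V ∧ StalkBasis m := by
  obtain ⟨T', j, hj, ht, ⟨α⟩⟩ := h
  haveI := hj
  let v : pullback f (j ≫ u) ⟶ pullback f u :=
    pullback.lift (pullback.fst _ _) (pullback.snd _ _ ≫ j) (by rw [Category.assoc]; exact pullback.condition)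
  have hv : IsPullback v (pullback.snd f (j ≫ u)) (pullback.snd f u) j := by
    refine IsPullback.of_right ?_ (pullback.lift_snd _ _ _) (IsPullback.of_hasPullback f u)
    rw [pullback.lift_fst]
    exact IsPullback.of_hasPullback f (j ≫ u)
  haveI : IsOpenImmersion v := MorphismProperty.of_isPullback hv.flip inferInstance
  let G := (Scheme.Modules.pullback (pullback.fst f u)).obj E
  obtain ⟨γ⟩ := Desc59.Pic.nonempty_restrictIso v (M := G) (N := FlatMod.freeMod (pullback f u) r)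
    ⟨(Scheme.Modules.pullbackComp v _).app E ≪≫
      (Scheme.Modules.pullbackCongr (pullback.lift_fst _ _ _ : v ≫ pullback.fst f u = pullback.fst f (j ≫ u))).app E ≪≫
      α ≪≫ (Algz14.pullbackFreeModIso v r).symm⟩
  obtain ⟨s, hs⟩ := exists_stalkBasis_of_iso (γ ≪≫ LF71.restrictFree v.opensRange.ι r)
  have hle : pullback.snd f u ⁻¹ᵁ j.opensRange ≤ v.opensRange := by
    intro x hx
    obtain ⟨w, hw⟩ := hx
    obtain ⟨x', hx', -⟩ := Scheme.Pullback.exists_preimage_pullback x w hw.symm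
    refine ⟨hv.isoPullback.inv x', ?_⟩
    rw [← Scheme.Hom.comp_apply, hv.isoPullback_inv_fst]
    exact hx'
  exact ⟨j.opensRange, fun i => res G hle (s i), ht, hs.restrict hle⟩

/-- A frame gives triviality. -/
theorem trivAt_of_frame {T : Scheme.{u}} {u : T ⟶ S} {r : ℕ} {V : T.Opens}
    {m : Fin r → Γ((Scheme.Modules.pullback (pullback.fst f u)).obj E, pullback.snd f u ⁻¹ᵁ V)} (hm : StalkBasis m)
    (t : T) (ht : t ∈ V) : TrivAt f E u r t := by
  obtain ⟨α⟩ := nonempty_iso_of_stalkBasis hm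
  refine ⟨V, V.ι, inferInstance, ⟨⟨t, ht⟩, rfl⟩, ⟨?_⟩⟩
  let p := pullback.snd f u
  have sq : IsPullback ((p ⁻¹ᵁ V).ι ≫ pullback.fst f u) (p ∣_ V) f (V.ι ≫ u) :=
    ((isPullback_morphismRestrict p V).flip).paste_horiz (IsPullback.of_hasPullback f u)
  let θ := sq.isoPullback
  let k := θ.inv ≫ (p ⁻¹ᵁ V).ι
  have hk : k ≫ pullback.fst f u = pullback.fst f (V.ι ≫ u) := by
    rw [Category.assoc]
    exact sq.isoPullback_inv_fst
  exact (Scheme.Modules.pullbackCongr hk.symm).app E ≪≫ ((Scheme.Modules.pullbackComp k _).app E).symm ≪≫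
    ((Scheme.Modules.pullbackComp θ.inv (p ⁻¹ᵁ V).ι).app _).symm ≪≫
    (Scheme.Modules.pullback θ.inv).mapIso
      (((Scheme.Modules.restrictFunctorIsoPullback (p ⁻¹ᵁ V).ι).app _).symm ≪≫ α) ≪≫
    Algz14.pullbackFreeModIso θ.inv r

end Groth.Agent.FlatMor66.DescLocus
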