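import Groth.Agent.FlatMor66.DescLocus.Frames
import Groth.Agent.FEt83.UHEquiv
import Groth.Agent.Desc59.Pic.VectPush
import Groth.Agent.EGAProj74.BasisIso

/-! The subscheme of the base over which a locally free module comes from the base. -/

set_option autoImplicit false
set_option maxSynthPendingDepth 6
set_option linter.style.haveILetI false
set_option linter.unusedSectionVars false
set_option backward.isDefEq.respectTransparency.types false

universe u

noncomputable section

open CategoryTheory CategoryTheory.Limits AlgebraicGeometry TopologicalSpace Opposite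
open Groth.Agent.QC70 Groth.Agent.Props58.LocFree

namespace Groth.Agent.FlatMor66.DescLocus

open Mum71.Strat (CondR CondT)

variable {X S : Scheme.{u}}

/-- A morphism sending a frame to a frame is bijective on sections. -/
theorem bijective_app_of_frame {M N : X.Modules} (φ : M ⟶ N) {U : X.Opens} {n : ℕ} {s : Fin n → Γ(M, U)}
    {t : Fin n → Γ(N, U)} (hs : StalkBasis s) (ht : StalkBasis t) (h : ∀ i, φ.app U (s i) = t i) {V : X.Opens}
    (hV : V ≤ U) : Function.Bijective (φ.app V) := by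
  refine (Function.Bijective.of_comp_iff _ (hs.bijective hV)).1 ?_
  have e : (φ.app V : _ → _) ∘ (fun a : Fin n → Γ(X, V) => ∑ i, a i • res M hV (s i)) =
      fun a : Fin n → Γ(X, V) => ∑ i, a i • res N hV (t i) := by
    funext a
    rw [Function.comp_apply, map_sum]
    refine Finset.sum_congr rfl fun i _ => ?_
    rw [Scheme.Modules.Hom.app_smul, app_res, h]
  rw [e]
  exact ht.bijective hV

/-- The image of a frame under a locally bijective morphism is a frame. -/
theorem stalkBasis_of_app_bijective {M N : X.Modules} (φ : M ⟶ N) {U : X.Opens} {n : ℕ} {s : Fin n → Γ(M, U)}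
    (hs : StalkBasis s) (hφ : ∀ (V : X.Opens), V ≤ U → Function.Bijective (φ.app V)) :
    StalkBasis fun i => φ.app U (s i) := by
  refine FinCov99.stalkBasis_of_bijective fun W hW => ?_
  have e : (fun a : Fin n → Γ(X, W) => ∑ i, a i • res N hW (φ.app U (s i))) =
      (φ.app W : _ → _) ∘ fun a => ∑ i, a i • res M hW (s i) := by
    funext a
    rw [Function.comp_apply, map_sum]
    exact Finset.sum_congr rfl fun i _ => by rw [Scheme.Modules.Hom.app_smul, app_res]
  rw [e]
  exact (hφ W hW).comp (hs.bijective hW)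

theorem counit_res {X T : Scheme.{u}} (p : X ⟶ T) (M : X.Modules) {V W : T.Opens} (h : W ≤ V) (y : Γ(M, p ⁻¹ᵁ V)) :
    ((Scheme.Modules.pullbackPushforwardAdjunction p).counit.app M).app (p ⁻¹ᵁ W)
        (Amp73.pullS p ((Scheme.Modules.pushforward p).obj M) W (res ((Scheme.Modules.pushforward p).obj M) h y)) =
      res M (p.preimage_mono h) y :=
  Amp73.counit_app_pullS p M W (res M (p.preimage_mono h) y)

theorem bc0_app_unit {X' S' : Scheme.{u}} (f : X ⟶ S) (F : X.Modules) (g' : X' ⟶ X) (f' : X' ⟶ S') (g : S' ⟶ S)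
    (w : g' ≫ f = f' ≫ g) (V : S.Opens) (m : Γ(F, f ⁻¹ᵁ V)) :
    (CohBC.bc0 f g f' g' w F).app (g ⁻¹ᵁ V)
        (((Scheme.Modules.pullbackPushforwardAdjunction g).unit.app ((Scheme.Modules.pushforward f).obj F)).app V m) =
      QCPull72.unitSec g' F (CohCmp.sqLE f g f' g' w V) m := by
  have h1 : (Scheme.Modules.pullbackPushforwardAdjunction g).unit.app ((Scheme.Modules.pushforward f).obj F) ≫
      (Scheme.Modules.pushforward g).map (CohBC.bc0 f g f' g' w F) = CohBC.bc0Adj f g f' g' w F :=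
    ((Scheme.Modules.pullbackPushforwardAdjunction g).homEquiv_unit _ _ _).symm.trans
      (Equiv.apply_symm_apply _ _)
  refine Eq.trans ?_ (Mum71.bc0Adj_app g' f' g w m)
  exact congr(Scheme.Modules.Hom.app $h1 V m)

section Main

variable (f : X ⟶ S) [Flat f] [IsProper f] [LocallyOfFinitePresentation f]
  (hO : ∀ (T : Scheme.{u}) (g : T ⟶ S) (U : T.Opens), IsIso ((pullback.snd f g).app U))
  {E : X.Modules} (hE : FlatMod.IsFinLocFree E)

/-- The pullback of `E`. -/
abbrev ET (E : X.Modules) {T : Scheme.{u}} (u : T ⟶ S) : (pullback f u).Modules :=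
  (Scheme.Modules.pullback (pullback.fst f u)).obj E

include hO in
theorem bijective_app {T : Scheme.{u}} (u : T ⟶ S) (U : T.Opens) :
    Function.Bijective ((pullback.snd f u).app U) :=
  haveI := hO T u U
  ConcreteCategory.bijective_of_isIso _

include hO in
theorem bijective_app_of_isPullback {P T : Scheme.{u}} {v : P ⟶ X} {p : P ⟶ T} {u : T ⟶ S}
    (sq : IsPullback v p f u) (U : T.Opens) : Function.Bijective (p.app U) := by
  have key : ∀ q : P ⟶ T, q = sq.isoPullback.hom ≫ pullback.snd f u → Function.Bijective (q.app U) := by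
    rintro _ rfl
    rw [Scheme.Hom.comp_app]
    exact (ConcreteCategory.bijective_of_isIso (sq.isoPullback.hom.app (pullback.snd f u ⁻¹ᵁ U))).comp
      (bijective_app f hO u U)
  exact key p sq.isoPullback_hom_snd.symm

include hO in
theorem exists_over {T : Scheme.{u}} (u : T ⟶ S) (t : T) : ∃ x, pullback.snd f u x = t := by
  by_contra hs
  let W : T.Opens := ⟨(Set.range (pullback.snd f u))ᶜ, (pullback.snd f u).isClosedMap.isClosed_range.isOpen_compl⟩
  have hW : pullback.snd f u ⁻¹ᵁ W = ⊥ :=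
    Opens.ext (Set.eq_empty_of_forall_notMem fun x hx => hx ⟨x, rfl⟩)
  have htW : t ∈ W := fun ⟨x, hx⟩ => hs ⟨x, hx⟩
  haveI : Subsingleton Γ(pullback f u, pullback.snd f u ⁻¹ᵁ W) := by
    rw [hW]
    exact CommRingCat.subsingleton_of_isTerminal (pullback f u).sheaf.isTerminalOfEmpty
  have h1 : (1 : Γ(T, W)) = 0 := (bijective_app f hO u W).1 (Subsingleton.elim _ _)
  have := congrArg (T.presheaf.germ W t htW) h1
  rw [map_one, map_zero] at this
  exact one_ne_zero this

/-- The locus of rank `r`. -/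
def rankSet (E : X.Modules) (r : ℕ) : Set X :=
  {x | Module.finrank (X.presheaf.stalk x) (E.presheaf.stalk x) = r}

include hE in
theorem isOpen_rankSet_mem (x : X) : ∃ U : X.Opens, x ∈ U ∧ ∀ y ∈ U,
    Module.finrank (X.presheaf.stalk y) (E.presheaf.stalk y) = Module.finrank (X.presheaf.stalk x) (E.presheaf.stalk x) := by
  obtain ⟨U, n, s, hx, hs⟩ := isFinLocFree_iff.1 hE x
  exact ⟨U, hx, fun y hy => (FlatMor67.FibreFree.finrank_stalk_eq y hy (hs y hy)).trans
    (FlatMor67.FibreFree.finrank_stalk_eq x hx (hs x hx)).symm⟩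

include hE in
theorem isOpen_rankSet (r : ℕ) : IsOpen (rankSet E r) :=
  isOpen_iff_forall_mem_open.2 fun x hx => by
    obtain ⟨U, hxU, hU⟩ := isOpen_rankSet_mem hE x
    exact ⟨U, fun y hy => (hU y hy).trans hx, U.2, hxU⟩

include hE in
theorem isClosed_rankSet (r : ℕ) : IsClosed (rankSet E r) :=
  isOpen_compl_iff.1 (isOpen_iff_forall_mem_open.2 fun x hx => by
    obtain ⟨U, hxU, hU⟩ := isOpen_rankSet_mem hE x
    exact ⟨U, fun y hy h => hx ((hU y hy).symm.trans h), U.2, hxU⟩)

/-- The open of the base over which `E` has rank `r`. -/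
def omega (r : ℕ) : S.Opens :=
  ⟨f '' rankSet E r ∩ (f '' (rankSet E r)ᶜ)ᶜ,
    (f.isOpenMap _ (isOpen_rankSet hE r)).inter
      (f.isClosedMap _ (isOpen_compl_iff.1 (by rw [compl_compl]; exact isOpen_rankSet hE r))).isOpen_compl⟩

theorem omega_eq {r r' : ℕ} {s : S} (h : s ∈ omega f hE r) (h' : s ∈ omega f hE r') : r = r' := by
  obtain ⟨⟨x, hx, rfl⟩, -⟩ := h
  have : x ∈ rankSet E r' := not_not.1 fun hn => h'.2 ⟨x, hn, rfl⟩
  exact hx.symm.trans this

include hE in
theorem rank_of_trivAt {T : Scheme.{u}} {u : T ⟶ S} {r : ℕ} {t : T} (h : TrivAt f E u r t) (x : X) (hx : f x = u t) :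
    x ∈ rankSet E r := by
  obtain ⟨V, m, htV, hm⟩ := exists_frame h
  obtain ⟨x', hx'1, hx'2⟩ := Scheme.Pullback.exists_preimage_pullback x t hx
  subst hx'1
  have hmem : x' ∈ pullback.snd f u ⁻¹ᵁ V := by
    show pullback.snd f u x' ∈ V
    rw [hx'2]; exact htV
  show Module.finrank _ _ = r
  rw [← FlatMor67.FibreFree.finrank_stalk_pullback (pullback.fst f u) hE x']
  exact FlatMor67.FibreFree.finrank_stalk_eq x' hmem (hm x' hmem)

include hO in
theorem mem_omega {T : Scheme.{u}} {u : T ⟶ S} {r : ℕ} {t : T} (h : TrivAt f E u r t) : u t ∈ omega f hE r := by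
  obtain ⟨x', hx'⟩ := exists_over f hO u t
  have hx : f (pullback.fst f u x') = u t := by
    rw [← Scheme.Hom.comp_apply, pullback.condition, Scheme.Hom.comp_apply, hx']
  refine ⟨⟨_, rank_of_trivAt f hE h _ hx, hx⟩, ?_⟩
  rintro ⟨x, hx', hfx⟩
  exact hx' (rank_of_trivAt f hE h x hfx)

include hO in
/-- Trivial modules have direct image free, commuting with base change. -/
theorem condT_of_trivAt {T : Scheme.{u}} (u : T ⟶ S) {r : ℕ} (h : ∀ t, TrivAt f E u r t) : CondT f E r u := by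
  have hp := bijective_app f hO u
  refine ⟨fun t => ?_, fun X'' T' v' f'' u' hX => ?_⟩
  · obtain ⟨V, m, htV, hm⟩ := exists_frame (h t)
    exact ⟨V, htV, nonempty_iso_of_stalkBasis (FlatMor67.SpreadBasis.push_stalkBasis hp hm)⟩
  · let p := pullback.snd f u
    let G := ET f E u
    have hf'' : ∀ U : T'.Opens, Function.Bijective (f''.app U) :=
      bijective_app_of_isPullback f hO (hX.paste_horiz (IsPullback.of_hasPullback f u))
    refine EGAProj74.isIso_of_basis _ {V' | ∃ (V : T.Opens) (m : Fin r → Γ(G, p ⁻¹ᵁ V)),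
      StalkBasis m ∧ V' ≤ u' ⁻¹ᵁ V} (fun W z hz => ?_) fun V' hV' => ?_
    · obtain ⟨V, m, hzV, hm⟩ := exists_frame (h (u' z))
      exact ⟨W ⊓ u' ⁻¹ᵁ V, ⟨V, m, hm, inf_le_right⟩, ⟨hz, hzV⟩, inf_le_left⟩
    · obtain ⟨V, m, hm, hle⟩ := hV'
      have hs := Desc59.Pic.VectPush.stalkBasis_pullback u' (FlatMor67.SpreadBasis.push_stalkBasis hp hm)
      have ht' := (Desc59.Pic.VectPush.stalkBasis_pullback v' hm).restrict (CohCmp.sqLE p u' f'' v' hX.w V)
      have ht := FlatMor67.SpreadBasis.push_stalkBasis hf'' ht'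
      refine bijective_app_of_frame _ hs ht (fun i => ?_) hle
      simp only [QCPull72.unitSec, res_self]
      exact bc0_app_unit p G v' f'' u' hX.w V (m i)

/-- The stratum of rank `r`. -/
def strat (r : ℕ) : Scheme.{u} :=
  haveI := isQuasicoherent_of_isFinLocFree hE
  Mum71.Strat.stratum f E (isFP_of_isFinLocFree hE) (RB70.isFlatOver_of_isFinLocFree f hE) r

/-- The immersion of the stratum. -/
def stratι (r : ℕ) : strat f hE r ⟶ S :=
  haveI := isQuasicoherent_of_isFinLocFree hE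
  Mum71.Strat.stratumι f E (isFP_of_isFinLocFree hE) (RB70.isFlatOver_of_isFinLocFree f hE) r

instance isImmersion_stratι (r : ℕ) : IsImmersion (stratι f hE r) :=
  haveI := isQuasicoherent_of_isFinLocFree hE
  Mum71.Strat.isImmersion_stratumι f E _ _ r

instance lfp_stratι (r : ℕ) : LocallyOfFinitePresentation (stratι f hE r) :=
  haveI := isQuasicoherent_of_isFinLocFree hE
  Mum71.Strat.lfp_stratumι f E _ _ r

theorem strat_factors_iff (r : ℕ) {T : Scheme.{u}} (u : T ⟶ S) :
    (∃ u' : T ⟶ strat f hE r, u' ≫ stratι f hE r = u) ↔ CondT f E r u :=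
  haveI := isQuasicoherent_of_isFinLocFree hE
  Mum71.Strat.factors_iff f E _ _ r u

include hO in
/-- Triviality descends to the stratum. -/
theorem trivAt_strat {r : ℕ} {T : Scheme.{u}} {u : T ⟶ S} (u' : T ⟶ strat f hE r) (hu : u' ≫ stratι f hE r = u)
    {t : T} (h : TrivAt f E u r t) : TrivAt f E (stratι f hE r) r (u' t) := by
  subst hu
  haveI := isQuasicoherent_of_isFinLocFree hE
  let ι := stratι f hE r
  let pZ := pullback.snd f ι
  let G := ET f E ι
  have hG : FlatMod.IsFinLocFree G := DCX42.isFinLocFree_pullback _ hE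
  obtain ⟨hfree, hbc⟩ := (strat_factors_iff f hE r ι).1 ⟨𝟙 _, Category.id_comp _⟩
  obtain ⟨V, hzV, ⟨α⟩⟩ := hfree (u' t)
  obtain ⟨m, hm⟩ := exists_stalkBasis_of_iso α
  let pT := pullback.snd f (u' ≫ ι)
  let w : pullback f (u' ≫ ι) ⟶ pullback f ι :=
    pullback.lift (pullback.fst _ _) (pullback.snd _ _ ≫ u') (by rw [Category.assoc]; exact pullback.condition)
  have hw : IsPullback w pT pZ u' := by
    refine IsPullback.of_right ?_ (pullback.lift_snd _ _ _) (IsPullback.of_hasPullback f ι)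
    rw [pullback.lift_fst]
    exact IsPullback.of_hasPullback f (u' ≫ ι)
  let G' := (Scheme.Modules.pullback w).obj G
  let c : ET f E (u' ≫ ι) ≅ G' :=
    (Scheme.Modules.pullbackCongr (pullback.lift_fst _ _ _ : w ≫ pullback.fst f ι = pullback.fst f (u' ≫ ι))).symm.app E ≪≫
      ((Scheme.Modules.pullbackComp w _).app E).symm
  obtain ⟨V₂, e, htV₂, he⟩ := exists_frame h
  have he' := FlatMor67.SpreadBasis.stalkBasis_map c he
  haveI := hbc w pT u' hw
  let β := CohBC.bc0 pZ u' pT w hw.w G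
  let R := (Scheme.Modules.pushforward pZ).obj G
  let R' := (Scheme.Modules.pushforward pT).obj G'
  have hn0 : StalkBasis (fun i => β.app (u' ⁻¹ᵁ V) (((Scheme.Modules.pullbackPushforwardAdjunction u').unit.app R).app V (m i))) := by
    have h1 := Desc59.Pic.VectPush.stalkBasis_pullback u' (M := R) hm
    simp only [QCPull72.unitSec, res_self] at h1
    exact FlatMor67.SpreadBasis.stalkBasis_map (asIso β) h1
  let n : Fin r → Γ(G', pT ⁻¹ᵁ (u' ⁻¹ᵁ V)) := fun i => QCPull72.unitSec w G (CohCmp.sqLE pZ u' pT w hw.w V) (m i)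
  have hn : StalkBasis (M := R') (U := u' ⁻¹ᵁ V) (fun i => n i) := by
    convert hn0 using 1
    funext i
    exact (bc0_app_unit pZ G w pT u' hw.w V (m i)).symm
  let V₃ := u' ⁻¹ᵁ V ⊓ V₂
  have hn3 := hn.restrict (inf_le_left : V₃ ≤ u' ⁻¹ᵁ V)
  let adj := Scheme.Modules.pullbackPushforwardAdjunction pT
  have hθ := stalkBasis_of_app_bijective (adj.counit.app G')
    (Pinch99.stalkBasis_pullS pT hn3) fun W hW =>
      FlatMor67.SpreadBasis.counit_app_bijective (bijective_app f hO (u' ≫ ι)) he'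
        (hW.trans (pT.preimage_mono inf_le_right))
  have hbasis : ∀ (x : ↥(pullback f ι)) (hx : pZ x ∈ V), pZ x = u' t → Function.Bijective (germComb (M := G) m x hx) := by
    intro x hx hxz
    obtain ⟨x', hx'1, hx'2⟩ := Scheme.exists_preimage_of_isPullback hw x t hxz
    subst hx'1
    haveI := (FlatMor67.FibreFree.free_finite_stalk hG (w x')).1
    haveI := (FlatMor67.FibreFree.free_finite_stalk hG (w x')).2
    refine (FlatMor67.FibreFree.germComb_pullS_iff w m x' hx).1 ?_
    have hx3 : x' ∈ pT ⁻¹ᵁ V₃ := by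
      show pT x' ∈ V₃
      rw [hx'2]
      exact ⟨hzV, htV₂⟩
    have key : ∀ i, (adj.counit.app G').app (pT ⁻¹ᵁ V₃) (Amp73.pullS pT R' V₃ (res R' inf_le_left (n i))) =
        res G' ((pT.preimage_mono inf_le_left).trans (CohCmp.sqLE pZ u' pT w hw.w V) :
          pT ⁻¹ᵁ V₃ ≤ w ⁻¹ᵁ (pZ ⁻¹ᵁ V)) (Amp73.pullS w G (pZ ⁻¹ᵁ V) (m i)) := by
      intro i
      refine (counit_res pT G' inf_le_left (n i)).trans ?_
      exact res_res (CohCmp.sqLE pZ u' pT w hw.w V) (pT.preimage_mono inf_le_left) (Amp73.pullS w G (pZ ⁻¹ᵁ V) (m i))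
    have h4 := (congrArg (fun fam => Function.Bijective (germComb (M := G') (U := pT ⁻¹ᵁ V₃) fam x' hx3))
      (funext key)).mp (hθ x' hx3)
    rw [funext (germComb_res _ _ x' hx3)] at h4
    exact h4
  choose W hxW hWU hW using fun (x : {x : ↥(pullback f ι) // pZ x = u' t}) =>
    FlatMor67.SpreadBasis.exists_nhd_basis hG (U := pZ ⁻¹ᵁ V) m x.1
      (show pZ x.1 ∈ V by rw [x.2]; exact hzV) (hbasis x.1 _ x.2)
  let Ω : (pullback f ι).Opens := ⨆ x, W x
  let V₁ : (strat f hE r).Opens := V ⊓ ⟨(pZ '' (Ω : Set _)ᶜ)ᶜ,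
    (pZ.isClosedMap _ Ω.2.isClosed_compl).isOpen_compl⟩
  have hzV₁ : u' t ∈ V₁ := ⟨hzV, fun ⟨x, hx, hxe⟩ => hx (Opens.mem_iSup.2 ⟨⟨x, hxe⟩, hxW ⟨x, hxe⟩⟩)⟩
  refine trivAt_of_frame (V := V₁) (m := fun i => res G (pZ.preimage_mono inf_le_left) (m i)) (fun y hy => ?_)
    (u' t) hzV₁
  have hyΩ : y ∈ Ω := by
    by_contra hc
    exact hy.2 ⟨y, hc, rfl⟩
  obtain ⟨x, hx⟩ := Opens.mem_iSup.1 hyΩ
  rw [show germComb (fun i => res G (pZ.preimage_mono inf_le_left) (m i)) y hy = germComb (M := G) m y hy.1 from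
    funext (germComb_res _ _ y hy)]
  exact hW x y hy.1 hx

/-- The open part of the stratum where `E` is trivial. -/
def piece (r : ℕ) : (strat f hE r).Opens :=
  ⟨{z | TrivAt f E (stratι f hE r) r z} ∩ (stratι f hE r) ⁻¹' (omega f hE r),
    (isOpen_trivAt (stratι f hE r) r).inter (stratι f hE r ⁻¹ᵁ omega f hE r).2⟩

/-- The locus. -/
def locus : Scheme.{u} := ∐ fun r : ULift.{u} ℕ => (piece f hE r.down : Scheme.{u})

/-- The morphism from a piece to the base. -/
def pieceι (r : ℕ) : (piece f hE r : Scheme.{u}) ⟶ S := (piece f hE r).ι ≫ stratι f hE r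

/-- The morphism of the locus. -/
def locusι : locus f hE ⟶ S := Sigma.desc fun r => pieceι f hE r.down

theorem pieceι_mem (r : ℕ) (z : (piece f hE r : Scheme.{u})) : pieceι f hE r z ∈ omega f hE r := z.2.2

/-- A piece inside its open. -/
def pieceK (r : ℕ) : (piece f hE r : Scheme.{u}) ⟶ omega f hE r :=
  IsOpenImmersion.lift (omega f hE r).ι (pieceι f hE r) (by
    rw [Scheme.Opens.range_ι]
    rintro _ ⟨z, rfl⟩
    exact pieceι_mem f hE r z)

theorem pieceK_ι (r : ℕ) : pieceK f hE r ≫ (omega f hE r).ι = pieceι f hE r := IsOpenImmersion.lift_fac _ _ _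

theorem isImmersion_locusι : IsImmersion (locusι f hE) ∧ LocallyOfFinitePresentation (locusι f hE) := by
  let O : ULift.{u} ℕ → Scheme.{u} := fun r => (omega f hE r.down : Scheme.{u})
  let K := Limits.Sigma.map (f := fun r : ULift.{u} ℕ => (piece f hE r.down : Scheme.{u})) (g := O)
    (fun r => pieceK f hE r.down)
  let D : (∐ O) ⟶ S := Sigma.desc fun r => (omega f hE r.down).ι
  haveI : IsOpenImmersion D := isOpenImmersion_sigmaDesc _ _ fun i j hij => by
    refine Set.disjoint_left.2 ?_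
    rintro _ ⟨a, rfl⟩ ⟨b, hb⟩
    have hb' : b.1 = a.1 := hb
    exact hij (ULift.ext _ _ (omega_eq f hE a.2 (hb' ▸ b.2)))
  have hfac : locusι f hE = K ≫ D := Sigma.hom_ext _ _ fun r => by
    simp [locusι, K, D, pieceK_ι]
  have aux : ∀ (P : MorphismProperty Scheme.{u}) [IsZariskiLocalAtTarget P], (∀ r, P (pieceK f hE r)) → P K := by
    intro P _ hP
    refine (IsZariskiLocalAtTarget.iff_of_openCover (P := P) (sigmaOpenCover O)).2 fun i => ?_
    show P (pullback.snd K (Sigma.ι O i))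
    have hp := FEt83.isPullback_sigmaMap (fun r : ULift.{u} ℕ => pieceK f hE r.down) i
    rw [← hp.isoPullback_inv_snd, P.cancel_left_of_respectsIso]
    exact hP _
  haveI : IsImmersion K := aux @IsImmersion fun r => by
    haveI : IsImmersion (pieceK f hE r ≫ (omega f hE r).ι) := by rw [pieceK_ι, pieceι]; infer_instance
    exact IsImmersion.of_comp _ (omega f hE r).ι
  haveI : LocallyOfFinitePresentation K := aux @LocallyOfFinitePresentation fun r => by
    haveI : LocallyOfFinitePresentation (pieceK f hE r ≫ (omega f hE r).ι) := by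
      rw [pieceK_ι, pieceι]; infer_instance
    exact MorphismProperty.of_postcomp (W := @LocallyOfFinitePresentation) (W' := @IsOpenImmersion) _ (omega f hE r).ι
      inferInstance ‹_›
  rw [hfac]
  exact ⟨MorphismProperty.comp_mem @IsImmersion K D ‹_› inferInstance,
    MorphismProperty.comp_mem @LocallyOfFinitePresentation K D ‹_› inferInstance⟩

theorem trivAt_of_factor {T : Scheme.{u}} {u : T ⟶ S} (g : T ⟶ locus f hE) (hg : g ≫ locusι f hE = u) (t : T) :
    ∃ r, TrivAt f E u r t := by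
  subst hg
  obtain ⟨r, z, hz⟩ := (sigmaOpenCover fun r : ULift.{u} ℕ => (piece f hE r.down : Scheme.{u})).exists_eq (g t)
  let c := Sigma.ι (fun r : ULift.{u} ℕ => (piece f hE r.down : Scheme.{u})) r
  haveI : IsOpenImmersion c :=
    inferInstanceAs (IsOpenImmersion (Sigma.ι (fun r : ULift.{u} ℕ => (piece f hE r.down : Scheme.{u})) r))
  haveI : IsOpenImmersion (pullback.fst g c) := MorphismProperty.pullback_fst _ _ ‹IsOpenImmersion c›
  obtain ⟨t', ht'1, ht'2⟩ := Scheme.Pullback.exists_preimage_pullback (f := g) (g := c) t z hz.symm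
  refine ⟨r.down, ht'1 ▸ TrivAt.of_open (pullback.fst g c) ?_⟩
  have e : pullback.fst g c ≫ g ≫ locusι f hE = (pullback.snd g c ≫ (piece f hE r.down).ι) ≫ stratι f hE r.down := by
    rw [pullback.condition_assoc, Category.assoc]
    congr 1
    exact Sigma.ι_desc (fun r : ULift.{u} ℕ => pieceι f hE r.down) r
  rw [e]
  refine TrivAt.comp _ ?_
  rw [Scheme.Hom.comp_apply, ht'2]
  exact z.2.1

include hO in
theorem exists_factor {T : Scheme.{u}} (u : T ⟶ S) (h : ∀ t, ∃ r, TrivAt f E u r t) :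
    ∃ g : T ⟶ locus f hE, g ≫ locusι f hE = u := by
  haveI := (isImmersion_locusι f hE).1
  haveI := isQuasicoherent_of_isFinLocFree hE
  have hT : ∀ r : ℕ, ∃ g : ((u ⁻¹ᵁ omega f hE r : T.Opens) : Scheme.{u}) ⟶ locus f hE,
      g ≫ locusι f hE = (u ⁻¹ᵁ omega f hE r).ι ≫ u := by
    intro r
    let W := u ⁻¹ᵁ omega f hE r
    have htriv : ∀ t : W, TrivAt f E (W.ι ≫ u) r t := fun t => by
      obtain ⟨r', hr'⟩ := h (W.ι t)
      obtain rfl : r' = r := omega_eq f hE (mem_omega f hO hE hr') t.2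
      exact hr'.comp W.ι
    obtain ⟨g, hg⟩ := (strat_factors_iff f hE r (W.ι ≫ u)).2 (condT_of_trivAt f hO (W.ι ≫ u) htriv)
    have hgr : Set.range g ⊆ Set.range (piece f hE r).ι := by
      rw [Scheme.Opens.range_ι]
      rintro _ ⟨t, rfl⟩
      refine ⟨trivAt_strat f hO hE g hg (htriv t), ?_⟩
      show stratι f hE r (g t) ∈ omega f hE r
      rw [← Scheme.Hom.comp_apply, hg]
      exact t.2
    refine ⟨IsOpenImmersion.lift (piece f hE r).ι g hgr ≫
      Sigma.ι (fun r : ULift.{u} ℕ => (piece f hE r.down : Scheme.{u})) ⟨r⟩, ?_⟩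
    rw [Category.assoc]
    refine (congrArg (_ ≫ ·) (Sigma.ι_desc (fun r : ULift.{u} ℕ => pieceι f hE r.down) ⟨r⟩)).trans ?_
    refine (Category.assoc _ _ _).symm.trans ?_
    exact (congrArg (· ≫ _) (IsOpenImmersion.lift_fac _ _ _)).trans hg
  choose g hg using hT
  let 𝒰 : T.OpenCover := T.openCoverOfIsOpenCover (fun r : ULift.{u} ℕ => u ⁻¹ᵁ omega f hE r.down)
    (IsOpenCover.mk (top_le_iff.1 fun t _ => by
      obtain ⟨r, hr⟩ := h t
      exact Opens.mem_iSup.2 ⟨⟨r⟩, mem_omega f hO hE hr⟩))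
  refine ⟨𝒰.glueMorphisms (fun r => g r.down) fun i j => ?_, 𝒰.hom_ext _ _ fun i => ?_⟩
  · rw [← cancel_mono (locusι f hE), Category.assoc, Category.assoc]
    exact (congrArg (pullback.fst (𝒰.f i) (𝒰.f j) ≫ ·) (hg i.down)).trans ((pullback.condition_assoc u).trans
      (congrArg (pullback.snd (𝒰.f i) (𝒰.f j) ≫ ·) (hg j.down)).symm)
  · rw [← Category.assoc, Scheme.Cover.ι_glueMorphisms]
    exact hg i.down

include hO in
/-- A locally trivial pullback comes from the base. -/
theorem exists_descended {T : Scheme.{u}} (u : T ⟶ S) (h : ∀ t, ∃ r, TrivAt f E u r t) :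
    ∃ N : T.Modules, FlatMod.IsFinLocFree N ∧
      Nonempty ((Scheme.Modules.pullback (pullback.snd f u)).obj N ≅ ET f E u) := by
  let p := pullback.snd f u
  let G := ET f E u
  have hp := bijective_app f hO u
  have key : ∀ t, ∃ (V : T.Opens) (r : ℕ) (m : Fin r → Γ(G, p ⁻¹ᵁ V)), t ∈ V ∧ StalkBasis m := fun t => by
    obtain ⟨r, hr⟩ := h t
    obtain ⟨V, m, ht, hm⟩ := exists_frame hr
    exact ⟨V, r, m, ht, hm⟩
  refine ⟨(Scheme.Modules.pushforward p).obj G, isFinLocFree_iff.2 fun t => ?_, ?_⟩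
  · obtain ⟨V, r, m, ht, hm⟩ := key t
    exact ⟨V, r, _, ht, FlatMor67.SpreadBasis.push_stalkBasis hp hm⟩
  · let θ := (Scheme.Modules.pullbackPushforwardAdjunction p).counit.app G
    have hb : ∀ (O : (pullback f u).Opens) (x), x ∈ O → ∃ W : (pullback f u).Opens,
        x ∈ W ∧ W ≤ O ∧ Function.Bijective (θ.app W) := fun O x hx => by
      obtain ⟨V, r, m, ht, hm⟩ := key (p x)
      exact ⟨O ⊓ p ⁻¹ᵁ V, ⟨hx, ht⟩, inf_le_left, FlatMor67.SpreadBasis.counit_app_bijective hp hm inf_le_right⟩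
    haveI := Om3.mono_of_basis θ fun O x hx => (hb O x hx).imp fun _ h => ⟨h.1, h.2.1, h.2.2.1⟩
    haveI := Om3.epi_of_basis θ fun O x hx => (hb O x hx).imp fun _ h => ⟨h.1, h.2.1, h.2.2.2⟩
    haveI := isIso_of_mono_of_epi θ
    exact ⟨asIso θ⟩

end Main

end Groth.Agent.FlatMor66.DescLocus
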